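import Mathlib
import Groth.Prelude.Def_Frob
import Groth.Prelude.Def_ClSub2
import Groth.Agent.FinCov71.Trace
import Groth.Agent.QCoh.Exact
import Groth.Agent.CohAff.ResOps

/-!
The Frobenius cokernel of the base is a direct summand of that of a finite cover of invertible degree;
pushforward along affine morphisms commutes with cokernels of quasi-coherent modules.
-/

set_option autoImplicit false
set_option backward.isDefEq.respectTransparency false
set_option backward.isDefEq.respectTransparency.types false

universe u

open CategoryTheory CategoryTheory.Limits AlgebraicGeometry Opposite TopologicalSpace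
open Groth.Agent.FinCov71

noncomputable section

namespace Groth.Agent.FrobSplit71

/-- In characteristic `p` the trace of the `p`-th power of a matrix is the `p`-th power of its trace. -/
theorem trace_pow_char {R : Type*} [CommRing R] (p : ℕ) [Fact p.Prime] [CharP R p]
    {n : Type*} [Fintype n] [DecidableEq n] (M : Matrix n n R) :
    Matrix.trace (M ^ p) = Matrix.trace M ^ p := by
  nontriviality R
  cases isEmpty_or_nonempty n
  · simp [Matrix.trace, (Fact.out : p.Prime).ne_zero]
  have hp : 0 < p := (Fact.out : p.Prime).pos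
  have h1 : Polynomial.expand R p (M ^ p).charpoly = M.charpoly ^ p := by
    unfold Matrix.charpoly
    rw [AlgHom.map_det, ← Matrix.coe_detMonoidHom,
      ← (Matrix.detMonoidHom : Matrix n n (Polynomial R) →* Polynomial R).map_pow]
    apply congr_arg Matrix.det
    refine matPolyEquiv.injective ?_
    rw [map_pow, Matrix.matPolyEquiv_charmatrix, sub_pow_char_of_commute, ← Polynomial.C_pow]
    · exact (id (matPolyEquiv_eq_X_pow_sub_C p M) :)
    · exact (Polynomial.C M).commute_X
  have h2 : (M ^ p).charpoly = M.charpoly.map (frobenius R p) := by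
    apply Polynomial.expand_injective hp
    rw [h1, ← Polynomial.map_expand, Polynomial.map_frobenius_expand]
  rw [Matrix.trace_eq_neg_charpoly_coeff, Matrix.trace_eq_neg_charpoly_coeff, h2, Polynomial.coeff_map,
    ← map_neg, frobenius_def]

/-- In characteristic `p` the trace of a finite free algebra commutes with `p`-th powers. -/
theorem algebra_trace_pow_char {R S : Type*} [CommRing R] [CommRing S] [Algebra R S]
    [Module.Free R S] [Module.Finite R S] (p : ℕ) [Fact p.Prime] (hp : (p : R) = 0) (s : S) :
    Algebra.trace R S (s ^ p) = Algebra.trace R S s ^ p := by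
  classical
  rcases subsingleton_or_nontrivial R with h | h
  · exact Subsingleton.elim _ _
  have : CharP R p := (CharP.charP_iff_prime_eq_zero Fact.out).2 hp
  let b := Module.Free.chooseBasis R S
  rw [Algebra.trace_eq_matrix_trace b, Algebra.trace_eq_matrix_trace b, map_pow]
  exact trace_pow_char p _

section Affine

variable {X Y : Scheme.{u}} (f : Y ⟶ X) [IsAffineHom f]

/-- Pushforward along an affine morphism commutes with cokernels of maps of quasi-coherent modules. -/
theorem nonempty_cokernel_push_iso {M N : Y.Modules} [M.IsQuasicoherent] [N.IsQuasicoherent] (φ : M ⟶ N)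
    [((Scheme.Modules.pushforward f).obj M).IsQuasicoherent]
    [((Scheme.Modules.pushforward f).obj N).IsQuasicoherent] :
    Nonempty (cokernel ((Scheme.Modules.pushforward f).map φ) ≅
      (Scheme.Modules.pushforward f).obj (cokernel φ)) := by
  let g := cokernelComparison φ (Scheme.Modules.pushforward f)
  have hπ : cokernel.π ((Scheme.Modules.pushforward f).map φ) ≫ g =
      (Scheme.Modules.pushforward f).map (cokernel.π φ) := π_comp_cokernelComparison _ _
  have hg : ∀ (V : X.Opens) y, g.app V ((cokernel.π ((Scheme.Modules.pushforward f).map φ)).app V y) =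
      ((Scheme.Modules.pushforward f).map (cokernel.π φ)).app V y := fun V y => by
    have := congrArg (fun ψ : (Scheme.Modules.pushforward f).obj N ⟶ _ => ψ.app V y) hπ
    exact this
  have : IsIso g := by
    refine CohAff.isIso_of_affine_bijective g fun V hV => ⟨?_, ?_⟩
    · refine (injective_iff_map_eq_zero _).2 fun x hx => ?_
      obtain ⟨y, rfl⟩ := QCoh.app_surjective_of_epi (cokernel.π ((Scheme.Modules.pushforward f).map φ)) hV x
      rw [hg] at hx
      obtain ⟨z, hz⟩ := ((kernel_sections (cokernel.π φ) (f ⁻¹ᵁ V)).2 y).1 hx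
      let l : M ⟶ kernel (cokernel.π φ) := kernel.lift _ φ (cokernel.condition φ)
      have : Epi l := by
        have h := ShortComplex.exact_of_g_is_cokernel
          (ShortComplex.mk φ (cokernel.π φ) (cokernel.condition φ)) (cokernelIsCokernel φ)
        exact (ShortComplex.exact_iff_epi_kernel_lift _).1 h
      obtain ⟨m, hm⟩ := QCoh.app_surjective_of_epi l (hV.preimage f) z
      have hy : ((Scheme.Modules.pushforward f).map φ).app V m = y := by
        refine Eq.trans ?_ ((congrArg ((kernel.ι (cokernel.π φ)).app (f ⁻¹ᵁ V)) hm).trans hz)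
        exact congrArg (fun ψ : M ⟶ N => ψ.app (f ⁻¹ᵁ V) m)
          (kernel.lift_ι (cokernel.π φ) φ (cokernel.condition φ)).symm
      rw [← hy]
      exact congrArg (fun ψ : (Scheme.Modules.pushforward f).obj M ⟶ _ => ψ.app V m)
        (cokernel.condition ((Scheme.Modules.pushforward f).map φ))
    · intro x
      obtain ⟨y, hy⟩ := QCoh.app_surjective_of_epi (cokernel.π φ) (hV.preimage f) x
      exact ⟨_, (hg V y).trans hy⟩
  exact ⟨asIso g⟩

end Affine

section Cover

variable {X Y : Scheme.{u}} (f : Y ⟶ X) [IsAffineHom f]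
variable (p : ℕ) [Fact p.Prime] [FrobSch.IsCharP X p] [FrobSch.IsCharP Y p]

/-- The direct image algebra. -/
abbrev pushAlg : RelSpec.QCAlg X := RelSpec.QCAlg.directImage f

/-- The algebra as the pushforward module. -/
def pushAlgIso : (pushAlg f).toModule ≅ (Scheme.Modules.pushforward f).obj (Coh.structureModule Y) where
  hom := ⟨PresheafOfModules.homMk
    { app := fun U => AddCommGrpCat.ofHom (AddMonoidHom.id (Γ(Y, f ⁻¹ᵁ U.unop)))
      naturality := fun U V i => rfl }
    (fun U r s => rfl)⟩
  inv := ⟨PresheafOfModules.homMk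
    { app := fun U => AddCommGrpCat.ofHom (AddMonoidHom.id (Γ(Y, f ⁻¹ᵁ U.unop)))
      naturality := fun U V i => rfl }
    (fun U r s => rfl)⟩
  hom_inv_id := rfl
  inv_hom_id := rfl

variable {f}

theorem trAt_pow (hA : FlatMod.IsFinLocFree (pushAlg f).toModule) {W : X.Opens} (a : Sec (pushAlg f) W) :
    trAt hA (a ^ p) = trAt hA a ^ p := by
  refine (trAt_unique hA fun V hV hf => ?_).symm
  obtain ⟨hfree, hfin⟩ := hf.free
  rw [map_pow, map_pow, isTr_trAt hA a V hV hf]
  exact (algebra_trace_pow_char p (FrobSch.natCast_eq_zero_app X p V) _).symm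

/-- The `O`-linear retraction of `O_X → f_*O_Y`: half the trace. -/
def half (hA : FlatMod.IsFinLocFree (pushAlg f).toModule) :
    (pushAlg f).toModule ⟶ Coh.structureModule X :=
  ((p + 1) / 2) • trHom hA

theorem half_app (hA : FlatMod.IsFinLocFree (pushAlg f).toModule) (U : X.Opens) (a : Sec (pushAlg f) U) :
    (half p hA).app U (toMod _ a) = (((p + 1) / 2 : ℕ) : Γ(X, U)) * trAt hA a := by
  let ev : ((pushAlg f).toModule ⟶ Coh.structureModule X) →+ Γ(Coh.structureModule X, U) :=
    AddMonoidHom.mk' (fun φ => φ.app U (toMod _ a)) (fun φ ψ => rfl)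
  exact (map_nsmul ev ((p + 1) / 2) (trHom hA)).trans (nsmul_eq_mul _ (trAt hA a))

theorem natCast_pow_char {U : X.Opens} (c : ℕ) : (c : Γ(X, U)) ^ p = (c : Γ(X, U)) := by
  rcases subsingleton_or_nontrivial Γ(X, U) with h | h
  · exact Subsingleton.elim _ _
  have : CharP Γ(X, U) p :=
    (CharP.charP_iff_prime_eq_zero Fact.out).2 (FrobSch.natCast_eq_zero_app X p U)
  exact map_natCast (frobenius Γ(X, U) p) c

theorem half_trAt_pow (hA : FlatMod.IsFinLocFree (pushAlg f).toModule) (U : X.Opens) (a : Sec (pushAlg f) U) :
    (((p + 1) / 2 : ℕ) : Γ(X, U)) * trAt hA (a ^ p) =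
      ((((p + 1) / 2 : ℕ) : Γ(X, U)) * trAt hA a) ^ p := by
  rw [trAt_pow, mul_pow, natCast_pow_char]

variable (hp : p ≠ 2) (h2 : FlatMod.IsFinLocFreeOfRank 2 (pushAlg f).toModule)
include hp h2

theorem half_algebraMap (U : X.Opens) (r : Γ(X, U)) :
    (half p (isFinLocFree_of_rank h2)).app U (toMod _ (algebraMap Γ(X, U) (Sec (pushAlg f) U) r)) = r := by
  refine (half_app p _ U _).trans ?_
  have hlin := lin_algebraMap (trHom (isFinLocFree_of_rank h2)) h2 (isTrace_trHom _) U r
  change trAt (isFinLocFree_of_rank h2) (algebraMap Γ(X, U) (Sec (pushAlg f) U) r) = 2 • r at hlin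
  rw [hlin, nsmul_eq_mul, ← mul_assoc, ← Nat.cast_mul]
  obtain ⟨m, hm⟩ := (Fact.out : p.Prime).odd_of_ne_two hp
  have : (p + 1) / 2 * 2 = p + 1 := by omega
  rw [this, Nat.cast_add, FrobSch.natCast_eq_zero_app X p U, Nat.cast_one, zero_add, one_mul]

/-- The Frobenius cokernel of the base is a retract of the direct image of that of the cover. -/
theorem exists_retract :
    ∃ (i : cokernel (ClSub.unitToPush (FrobSch.frob X p)) ⟶
        cokernel ((Scheme.Modules.pushforward f).map (ClSub.unitToPush (FrobSch.frob Y p))))
      (r : cokernel ((Scheme.Modules.pushforward f).map (ClSub.unitToPush (FrobSch.frob Y p))) ⟶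
        cokernel (ClSub.unitToPush (FrobSch.frob X p))), i ≫ r = 𝟙 _ := by
  have hA := isFinLocFree_of_rank h2
  let v : (Scheme.Modules.pushforward (FrobSch.frob X p)).obj (Coh.structureModule X) ⟶
      (Scheme.Modules.pushforward f).obj
        ((Scheme.Modules.pushforward (FrobSch.frob Y p)).obj (Coh.structureModule Y)) :=
    ⟨PresheafOfModules.homMk
      { app := fun U => AddCommGrpCat.ofHom
          ((f.app U.unop).hom : Γ(X, U.unop) →+* Γ(Y, f ⁻¹ᵁ U.unop)).toAddMonoidHom
        naturality := fun U V i => by
          ext s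
          exact congr($(f.naturality i) s) }
      (fun U (r : Γ(X, U.unop)) (s : Γ(X, U.unop)) => by
        change f.app U.unop (r ^ p * s) = (f.app U.unop r) ^ p * f.app U.unop s
        rw [map_mul, map_pow])⟩
  let v' : (Scheme.Modules.pushforward f).obj
        ((Scheme.Modules.pushforward (FrobSch.frob Y p)).obj (Coh.structureModule Y)) ⟶
      (Scheme.Modules.pushforward (FrobSch.frob X p)).obj (Coh.structureModule X) :=
    ⟨PresheafOfModules.homMk
      { app := fun U => AddCommGrpCat.ofHom (AddMonoidHom.mk'
          (show Γ(Y, f ⁻¹ᵁ U.unop) → Γ(X, U.unop) from fun s => (half p hA).app U.unop (toMod _ s))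
          (fun a b => map_add ((half p hA).app U.unop).hom (toMod _ a) (toMod _ b)))
        naturality := fun U V i => by
          ext s
          exact NatTrans.naturality_apply (half p hA).mapPresheaf i (toMod (pushAlg f) s) }
      (fun U (r : Γ(X, U.unop)) (s : Γ(Y, f ⁻¹ᵁ U.unop)) => by
        have := Scheme.Modules.Hom.app_smul (half p hA) (U := U.unop) (r ^ p) (toMod (pushAlg f) s)
        refine Eq.trans ?_ this
        refine congrArg (fun t : Γ(Y, f ⁻¹ᵁ U.unop) => (half p hA).app U.unop (toMod (pushAlg f) t)) ?_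
        change (f.app U.unop r) ^ p * s = f.app U.unop (r ^ p) * s
        rw [map_pow])⟩
  let a : Coh.structureModule X ⟶ (Scheme.Modules.pushforward f).obj (Coh.structureModule Y) :=
    ClSub.unitToPush f
  let a' : (Scheme.Modules.pushforward f).obj (Coh.structureModule Y) ⟶ Coh.structureModule X :=
    (pushAlgIso f).inv ≫ half p hA
  have ha : ClSub.unitToPush (FrobSch.frob X p) ≫ v =
      a ≫ (Scheme.Modules.pushforward f).map (ClSub.unitToPush (FrobSch.frob Y p)) := by
    refine Scheme.Modules.hom_ext _ _ fun U => ?_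
    ext r
    exact map_pow (f.app U).hom (show Γ(X, U) from r) p
  have hb : (Scheme.Modules.pushforward f).map (ClSub.unitToPush (FrobSch.frob Y p)) ≫ v' =
      a' ≫ ClSub.unitToPush (FrobSch.frob X p) := by
    refine Scheme.Modules.hom_ext _ _ fun U => ?_
    ext s
    refine (half_app p hA U ((show Sec (pushAlg f) U from s) ^ p)).trans
      ((half_trAt_pow p hA U s).trans ?_)
    exact (congrArg (fun t : Γ(X, U) => t ^ p) (half_app p hA U s)).symm
  have hv : v ≫ v' = 𝟙 _ := by
    refine Scheme.Modules.hom_ext _ _ fun U => ?_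
    ext r
    exact half_algebraMap p hp h2 U r
  refine ⟨cokernel.map _ _ a v ha, cokernel.map _ _ a' v' hb, ?_⟩
  rw [← cancel_epi (cokernel.π (ClSub.unitToPush (FrobSch.frob X p)))]
  simp only [cokernel.map, cokernel.π_desc_assoc, Category.assoc, cokernel.π_desc, Category.comp_id]
  rw [reassoc_of% hv]

end Cover

end Groth.Agent.FrobSplit71
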