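import Mathlib

/-!
A Frobenius semilinear map on a `d`-dimensional space has at most `p ^ d` fixed vectors.
-/

set_option autoImplicit false

universe u v

namespace Groth.Agent.FrobSplit71

variable {p : ℕ} [Fact p.Prime] {k : Type u} [Field k] [CharP k p]

theorem card_root_le :
    {a : k | a ^ p = a}.Finite ∧ Nat.card {a : k | a ^ p = a} ≤ p := by
  classical
  have hp : 1 < p := (Fact.out : p.Prime).one_lt
  let f : Polynomial k := Polynomial.X ^ p - Polynomial.X
  have hdeg : f.natDegree = p := FiniteField.X_pow_card_sub_X_natDegree_eq k hp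
  have hne : f ≠ 0 := FiniteField.X_pow_card_sub_X_ne_zero k hp
  have hsub : {a : k | a ^ p = a} ⊆ (f.roots.toFinset : Set k) := fun a ha => by
    rw [Finset.mem_coe, Multiset.mem_toFinset, Polynomial.mem_roots hne, Polynomial.IsRoot,
      Polynomial.eval_sub, Polynomial.eval_pow, Polynomial.eval_X]
    exact sub_eq_zero.2 ha
  refine ⟨(Finset.finite_toSet _).subset hsub, ?_⟩
  calc Nat.card {a : k | a ^ p = a} ≤ Nat.card (f.roots.toFinset : Set k) :=
        Nat.card_mono (Finset.finite_toSet _) hsub
    _ = f.roots.toFinset.card := (Nat.card_coe_set_eq _).trans (Set.ncard_coe_finset _)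
    _ ≤ Multiset.card f.roots := Multiset.toFinset_card_le _
    _ ≤ p := (Polynomial.card_roots' f).trans hdeg.le

theorem card_fixed_le {V : Type v} [AddCommGroup V] [Module k V] [FiniteDimensional k V] (φ : V →+ V)
    (hφ : ∀ (c : k) (v : V), φ (c • v) = c ^ p • φ v) :
    {v : V | φ v = v}.Finite ∧ Nat.card {v : V | φ v = v} ≤ p ^ Module.finrank k V := by
  classical
  obtain ⟨s, hs, hspan, hli⟩ := exists_linearIndependent k {v : V | φ v = v}
  haveI : Fintype s := (hli.setFinite).fintype
  let R := {a : k | a ^ p = a}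
  haveI : Finite R := (card_root_le (p := p) (k := k)).1.to_subtype
  let F : (s → R) → V := fun a => ∑ i, (a i : k) • (i : V)
  have hsub : {v : V | φ v = v} ⊆ Set.range F := fun v hv => by
    have hmem : v ∈ Submodule.span k (Set.range (Subtype.val : s → V)) := by
      rw [Subtype.range_coe, hspan]
      exact Submodule.subset_span hv
    obtain ⟨c, hc⟩ := (Submodule.mem_span_range_iff_exists_fun k).1 hmem
    have hc' : ∑ i, (c i ^ p - c i) • (i : V) = 0 := by
      simp only [sub_smul, Finset.sum_sub_distrib, sub_eq_zero]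
      calc ∑ i, c i ^ p • (i : V) = φ (∑ i, c i • (i : V)) := by
            rw [map_sum]
            exact Finset.sum_congr rfl fun i _ => by rw [hφ, show φ (i : V) = i from hs i.2]
        _ = v := by rw [hc]; exact hv
        _ = ∑ i, c i • (i : V) := hc.symm
    have h0 := Fintype.linearIndependent_iff.1 hli _ hc'
    exact ⟨fun i => ⟨c i, sub_eq_zero.1 (h0 i)⟩, hc⟩
  refine ⟨(Set.finite_range F).subset hsub, ?_⟩
  calc Nat.card {v : V | φ v = v} ≤ Nat.card (Set.range F) := Nat.card_mono (Set.finite_range F) hsub
    _ ≤ Nat.card (s → R) := Finite.card_range_le F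
    _ = Nat.card R ^ Nat.card s := Nat.card_fun
    _ ≤ p ^ Nat.card s := Nat.pow_le_pow_left (card_root_le (p := p) (k := k)).2 _
    _ ≤ p ^ Module.finrank k V := Nat.pow_le_pow_right (Fact.out : p.Prime).pos
        (by rw [Nat.card_eq_fintype_card]; exact hli.fintype_card_le_finrank)

end Groth.Agent.FrobSplit71
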