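import Groth.Agent.EtAS.Proper
import Groth.Agent.FrobSplit71.FixCard

/-!
Order bound for étale cohomology with `ℤ/p` coefficients of a proper scheme.
-/

set_option autoImplicit false
set_option backward.isDefEq.respectTransparency false
set_option backward.isDefEq.respectTransparency.types false

universe u

open CategoryTheory CategoryTheory.Limits AlgebraicGeometry Opposite

namespace Groth.Agent.FrobSplit71

theorem card_H_et_le (k : Type u) [Field k] [IsSepClosed k] (p : ℕ)
    [Fact p.Prime] [CharP k p] (X : Scheme.{u}) [X.Over (Spec (CommRingCat.of k))]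
    [IsProper (X ↘ Spec (CommRingCat.of k))] (i : ℕ) :
    Finite (EtCoh.H X (EtCoh.const X (ZMod p)) i) ∧
      Nat.card (EtCoh.H X (EtCoh.const X (ZMod p)) i) ≤
        p ^ Module.finrank k (Coh.HH X (Coh.structureModule X) i) := by
  let f := X ↘ Spec (CommRingCat.of k)
  have h0 := EtAS.Proper.natCast_eq_zero f p
  have hS := EtaleSite.ArtinSchreierKer.shortExact (X := X) p h0
  letI := EtAS.Proper.module f i
  haveI := EtAS.Proper.finite f i
  let φ : EtCoh.H X (EtCoh.Ga X) i →+ EtCoh.H X (EtCoh.Ga X) i :=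
    Sheaf.H.map (EtAS.Coherent.frob p (Fact.out : p.Prime) h0) i
  have hφ : ∀ (c : k) x, φ (c • x) = c ^ p • φ x := fun c x => by
    change Sheaf.H.map (EtAS.Coherent.frob p Fact.out h0) i
        (Sheaf.H.map (EtAS.Coherent.mulGa (Coh.toGlobal f c)) i x) =
      Sheaf.H.map (EtAS.Coherent.mulGa (Coh.toGlobal f (c ^ p))) i
        (Sheaf.H.map (EtAS.Coherent.frob p Fact.out h0) i x)
    rw [← Sheaf.H.map_comp_apply, ← Sheaf.H.map_comp_apply, EtAS.Coherent.mulGa_frob, map_pow]
  let j : EtCoh.H X (EtCoh.const X (ZMod p)) i →+ EtCoh.H X (EtCoh.Ga X) i :=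
    Sheaf.H.map (EtaleSite.ArtinSchreierKer.incl p h0) i
  have hj : Function.Injective j := by
    cases i with
    | zero =>
      haveI := hS.mono_f
      refine (injective_iff_map_eq_zero j).2 fun x hx => ?_
      have hT := EtCore.topIsTerminal X
      apply (Sheaf.H.equiv₀ _ hT).injective
      rw [map_zero]
      refine EtaleSite.ArtinSchreierKer.injective_incl p h0 (EtCoh.top X) ?_
      rw [map_zero, Sheaf.H.equiv₀_naturality hT (EtaleSite.ArtinSchreierKer.incl p h0) x]
      exact (congrArg _ hx).trans (map_zero _)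
    | succ r =>
      refine (injective_iff_map_eq_zero j).2 fun x hx => ?_
      obtain ⟨w, hw⟩ := Abelian.Ext.covariant_sequence_exact₁ _ hS x hx rfl
      obtain ⟨v, hv⟩ := (EtAS.Proper.main f p h0 r).1 w
      rw [← hw]
      show (show EtCoh.H X (EtCoh.Ga X) r from w).comp hS.extClass _ = 0
      rw [← hv, Sheaf.H.map_apply, Abelian.Ext.comp_assoc_of_second_deg_zero]
      exact (congrArg (fun z => v.comp z rfl) hS.comp_extClass).trans (Abelian.Ext.comp_zero _ _ _ _ _)
  have hA : ∀ v : EtCoh.H X (EtCoh.Ga X) i, φ v =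
      Sheaf.H.map (W4c5etcohweilstudent.artinSchreierEndo X p Fact.out h0) i v + v := fun v =>
    (Sheaf.H.map_add_apply _ _ v).trans (congrArg (_ + ·) (Sheaf.H.map_id_apply v))
  have hz : ∀ x : EtCoh.H X (EtCoh.const X (ZMod p)) i,
      Sheaf.H.map (W4c5etcohweilstudent.artinSchreierEndo X p Fact.out h0) i
        (Sheaf.H.map (EtaleSite.ArtinSchreierKer.incl p h0) i x) = 0 := fun x => by
    rw [← Sheaf.H.map_comp_apply, EtaleSite.ArtinSchreierKer.incl_comp]
    exact congrArg (fun t => t x) (congrArg AddCommGrpCat.Hom.hom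
      ((Sheaf.functorH _ i).map_zero (EtCoh.const X (ZMod p)) (EtCoh.Ga X)))
  have hfix : ∀ x, φ (j x) = j x := fun x => by
    refine (hA (j x)).trans ?_
    show Sheaf.H.map _ i (Sheaf.H.map (EtaleSite.ArtinSchreierKer.incl p h0) i x) + j x = j x
    rw [hz, zero_add]
  obtain ⟨hf, hc⟩ := FrobSplit71.card_fixed_le (p := p) φ hφ
  haveI := hf.to_subtype
  let j' : EtCoh.H X (EtCoh.const X (ZMod p)) i → {v | φ v = v} := fun x => ⟨j x, hfix x⟩
  have hj' : Function.Injective j' := fun a b h => hj (congrArg Subtype.val h)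
  obtain ⟨E, hE⟩ := EtAS.Coherent.exists_equiv X i
  have e : EtCoh.H X (EtCoh.Ga X) i ≃ₗ[k] Coh.HH X (Coh.structureModule X) i :=
    { E with map_smul' := fun c x => hE (Coh.toGlobal f c) x }
  refine ⟨Finite.of_injective j' hj', (Nat.card_le_card_of_injective j' hj').trans ?_⟩
  rw [← e.finrank_eq]
  exact hc

end Groth.Agent.FrobSplit71
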