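import Mathlib
import Groth.Prelude.Def_W4c5isocrystsimpconnFrobH
import Groth.Agent.CurveCoh.Euler
import Groth.Agent.QCoh.Pullback
import Groth.Agent.KRRLib.PullVb
import Groth.Agent.Props.GenLocus
import Groth.Agent.KFlat.LocFree

/-!
Iterated Frobenius pullback trivialises iterated extensions of `O` when Frobenius is nilpotent on `H¹(O)`.
-/

set_option autoImplicit false
set_option backward.isDefEq.respectTransparency false
set_option backward.isDefEq.respectTransparency.types false

universe u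

open CategoryTheory CategoryTheory.Limits AlgebraicGeometry Opposite TopologicalSpace

noncomputable section

namespace Groth.Agent.FrobSplit71.Iter

open Groth.Agent.CurveCoh

variable {X : Scheme.{u}}

/-- A decomposition of a module as `r` copies of the structure module. -/
structure Dec (r : ℕ) (A : X.Modules) where
  π : Fin r → (A ⟶ Coh.structureModule X)
  ι : Fin r → (Coh.structureModule X ⟶ A)
  ι_π : ∀ i j, ι i ≫ π j = if i = j then 𝟙 _ else 0
  total : ∑ i, π i ≫ ι i = 𝟙 A

/-- The decomposed module is free. -/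
def Dec.isoFreeMod {r : ℕ} {A : X.Modules} (d : Dec r A) : A ≅ FlatMod.freeMod X r where
  hom := ∑ i, d.π i ≫ Sigma.ι (fun _ : Fin r => Coh.structureModule X) i
  inv := Sigma.desc d.ι
  hom_inv_id := by simp [Preadditive.sum_comp, d.total]
  inv_hom_id := by
    refine Sigma.hom_ext _ _ fun j => ?_
    rw [Sigma.ι_desc_assoc, Preadditive.comp_sum, Category.comp_id, Finset.sum_eq_single j]
    · rw [← Category.assoc, d.ι_π, if_pos rfl, Category.id_comp]
    · intro b _ hb
      rw [← Category.assoc, d.ι_π, if_neg (Ne.symm hb), zero_comp]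
    · intro h
      exact absurd (Finset.mem_univ j) h

/-- A zero object has the empty decomposition. -/
def Dec.ofIsZero {A : X.Modules} (hA : IsZero A) : Dec 0 A where
  π i := i.elim0
  ι i := i.elim0
  ι_π i := i.elim0
  total := hA.eq_of_src _ _

/-- A decomposition of a split extension by `O`. -/
def Dec.ofSplit {r : ℕ} {S : ShortComplex X.Modules} (d : Dec r S.X₁) (e : S.X₃ ≅ Coh.structureModule X)
    (s : S.Splitting) : Dec (r + 1) S.X₂ where
  π := Fin.lastCases (S.g ≫ e.hom) (fun i => s.r ≫ d.π i)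
  ι := Fin.lastCases (e.inv ≫ s.s) (fun i => d.ι i ≫ S.f)
  ι_π i j := by
    refine Fin.lastCases ?_ (fun a => ?_) i <;> refine Fin.lastCases ?_ (fun b => ?_) j
    · simp [reassoc_of% s.s_g]
    · simp [reassoc_of% s.s_r, (Fin.castSucc_lt_last b).ne']
    · simp [reassoc_of% S.zero, (Fin.castSucc_lt_last a).ne]
    · simp [reassoc_of% s.f_r, d.ι_π, Fin.castSucc_inj]
  total := by
    rw [Fin.sum_univ_castSucc]
    simp only [Fin.lastCases_castSucc, Fin.lastCases_last, Category.assoc, Iso.hom_inv_id_assoc]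
    have : ∑ i, s.r ≫ d.π i ≫ d.ι i ≫ S.f = s.r ≫ S.f := by
      rw [← Preadditive.comp_sum]
      congr 1
      simp only [← Category.assoc, ← Preadditive.sum_comp, d.total, Category.id_comp]
    rw [this]
    exact s.id

section Sect

/-- The constant section `1` as a degree zero class. -/
def one (X : Scheme.{u}) : Coh.HH X (Coh.structureModule X) 0 :=
  (Sheaf.H.equiv₀ _ (isTerminalTop : IsTerminal (⊤ : Opens X))).symm (1 : Γ(X, ⊤))

variable {S : ShortComplex X.Modules} (hS : S.ShortExact)

/-- A lift of `1` to a global section splits an extension by the structure sheaf. -/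
theorem nonempty_splitting (e : S.X₃ ≅ Coh.structureModule X)
    (h : delta hS 0 1 rfl (Sheaf.H.map ((toAbF X).map e.inv) 0 (one X)) = 0) : Nonempty S.Splitting := by
  obtain ⟨y, hy⟩ := Abelian.Ext.covariant_sequence_exact₃ (ZZ X) (shortExact_toAb hS)
    (Sheaf.H.map ((toAbF X).map e.inv) 0 (one X)) rfl h
  have hT : IsTerminal (⊤ : Opens X) := isTerminalTop
  have hy' : Sheaf.H.map ((toAbF X).map (S.g ≫ e.hom)) 0 (show Coh.HH X S.X₂ 0 from y) = one X := by
    rw [Functor.map_comp, Sheaf.H.map_comp_apply]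
    have hy2 : Sheaf.H.map ((toAbF X).map S.g) 0 (show Coh.HH X S.X₂ 0 from y) =
        Sheaf.H.map ((toAbF X).map e.inv) 0 (one X) := hy
    rw [hy2, ← Sheaf.H.map_comp_apply, ← Functor.map_comp, Iso.inv_hom_id, CategoryTheory.Functor.map_id,
      Sheaf.H.map_id_apply]
  let σ : Γ(S.X₂, ⊤) := Sheaf.H.equiv₀ _ hT (show Coh.HH X S.X₂ 0 from y)
  have hσ : (S.g ≫ e.hom).app ⊤ σ = (1 : Γ(X, ⊤)) := by
    have := Sheaf.H.equiv₀_naturality hT ((toAbF X).map (S.g ≫ e.hom)) (show Coh.HH X S.X₂ 0 from y)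
    refine this.trans ?_
    rw [hy']
    exact AddEquiv.apply_symm_apply _ _
  let s : S.X₃ ⟶ S.X₂ := e.hom ≫ Props.GenLocus.homOfSec σ
  have hs : Props.GenLocus.homOfSec σ ≫ S.g ≫ e.hom = 𝟙 _ := by
    refine Scheme.Modules.hom_ext _ _ fun U => ?_
    ext a
    change (S.g ≫ e.hom).app U ((Props.GenLocus.homOfSec σ).app U a) = a
    rw [Props.GenLocus.app_eq, Props.GenLocus.sec_homOfSec, Scheme.Modules.Hom.app_smul]
    have hn := NatTrans.naturality_apply (S.g ≫ e.hom).mapPresheaf (homOfLE (le_top : U ≤ ⊤)).op σ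
    refine (congrArg (fun t => a • t) (hn.trans (congrArg _ hσ))).trans ?_
    change (show Γ(X, U) from a) * (X.presheaf.map (homOfLE (le_top : U ≤ ⊤)).op).hom 1 = a
    rw [map_one, mul_one]
  haveI := hS.mono_f
  haveI := hS.epi_g
  refine ⟨ShortComplex.Splitting.ofExactOfSection S hS.exact s ?_ inferInstance⟩
  rw [← cancel_mono e.hom]
  simp only [s, Category.assoc, Category.id_comp, hs, Category.comp_id]

end Sect

section Frob

variable (p : ℕ) [Fact p.Prime] [FrobSch.IsCharP X p]

/-- Pullback by Frobenius. -/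
abbrev G : X.Modules ⥤ X.Modules := Scheme.Modules.pullback (FrobSch.frob X p)

/-- `F^*O = O`. -/
def εO : (G p).obj (Coh.structureModule X) ≅ Coh.structureModule X :=
  QCoh.pullbackUnitIso (FrobSch.frob X p)

/-- The semilinear unit `M → F^*M`. -/
def unitAb (M : X.Modules) : (toAbF X).obj M ⟶ (toAbF X).obj ((G p).obj M) :=
  ⟨{ app := fun U => AddCommGrpCat.ofHom
      (X := ((toAbF X).obj M).obj.obj U) (Y := ((toAbF X).obj ((G p).obj M)).obj.obj U)
      (((Scheme.Modules.pullbackPushforwardAdjunction (FrobSch.frob X p)).unit.app M).app U.unop).hom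
     naturality := fun U V i => by
      ext s
      exact NatTrans.naturality_apply
        ((Scheme.Modules.pullbackPushforwardAdjunction (FrobSch.frob X p)).unit.app M).mapPresheaf i s }⟩

theorem unitAb_naturality {M N : X.Modules} (φ : M ⟶ N) :
    (toAbF X).map φ ≫ unitAb p N = unitAb p M ≫ (toAbF X).map ((G p).map φ) := by
  ext U s
  exact congrArg (fun (ψ : M ⟶ _) => ψ.app U.unop s)
    ((Scheme.Modules.pullbackPushforwardAdjunction (FrobSch.frob X p)).unit.naturality φ)

theorem unitAb_εO : unitAb p (Coh.structureModule X) ≫ (toAbF X).map (εO p).hom =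
    W4c5isocrystsimpconn.frobAb X p := by
  ext U s
  have h : (Scheme.Modules.pullbackPushforwardAdjunction (FrobSch.frob X p)).homEquiv _ _ (εO p).hom =
      SheafOfModules.unitToPushforwardObjUnit (FrobSch.frob X p).toRingCatSheafHom :=
    SheafOfModules.pullbackPushforwardAdjunction_homEquiv_pullbackObjUnitToUnit _
  rw [Adjunction.homEquiv_unit] at h
  exact congrArg (fun ψ : Coh.structureModule X ⟶ _ => ψ.app U.unop s) h

/-- A decomposition pulls back. -/
def Dec.pull {r : ℕ} {A : X.Modules} (d : Dec r A) [(G (X := X) p).Additive] : Dec r ((G p).obj A) where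
  π i := (G p).map (d.π i) ≫ (εO p).hom
  ι i := (εO p).inv ≫ (G p).map (d.ι i)
  ι_π i j := by
    rw [Category.assoc, ← Functor.map_comp_assoc, d.ι_π]
    split_ifs
    · simp
    · simp
  total := by
    simp only [Category.assoc, Iso.hom_inv_id_assoc, ← Functor.map_comp, ← Functor.map_sum, d.total,
      CategoryTheory.Functor.map_id]

theorem additive_G : (G (X := X) p).Additive :=
  (Scheme.Modules.pullbackPushforwardAdjunction (FrobSch.frob X p)).left_adjoint_additive

theorem isFinLocFree_of_iso {M : X.Modules} (e : M ≅ Coh.structureModule X) : FlatMod.IsFinLocFree M :=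
  KFlat.LocFree.isFinLocFree_of_iso e.symm S3203.flf_structure

/-- Pullback keeps an extension by `O` short exact. -/
theorem shortExact_G {S : ShortComplex X.Modules} (hS : S.ShortExact) (e : S.X₃ ≅ Coh.structureModule X)
    [(G (X := X) p).Additive] : (S.map (G p)).ShortExact :=
  KRRLib.shortExact_pull (FrobSch.frob X p) hS (isFinLocFree_of_iso e)

variable {S : ShortComplex X.Modules} (hS : S.ShortExact) (e : S.X₃ ≅ Coh.structureModule X)

/-- The extension class. -/
def cls : Coh.HH X S.X₁ 1 := delta hS 0 1 rfl (Sheaf.H.map ((toAbF X).map e.inv) 0 (one X))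

theorem frobH_one : W4c5isocrystsimpconn.frobH X p 0 (one X) = one X := by
  rw [W4c5isocrystsimpconn.frobH, one, Sheaf.H.equiv₀_symm_naturality]
  exact congrArg _ (one_pow (M := Γ(X, ⊤)) p)

theorem cls_pull [(G (X := X) p).Additive] :
    cls (shortExact_G p hS e) ((G p).mapIso e ≪≫ εO p) = Sheaf.H.map (unitAb p S.X₁) 1 (cls hS e) := by
  let φ : S.map (toAbF X) ⟶ (S.map (G p)).map (toAbF X) :=
    { τ₁ := unitAb p S.X₁
      τ₂ := unitAb p S.X₂
      τ₃ := unitAb p S.X₃
      comm₁₂ := (unitAb_naturality p S.f).symm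
      comm₂₃ := (unitAb_naturality p S.g).symm }
  have hs : Sheaf.H.map ((toAbF X).map ((G p).mapIso e ≪≫ εO p).inv) 0 (one X) =
      Sheaf.H.map (unitAb p S.X₃) 0 (Sheaf.H.map ((toAbF X).map e.inv) 0 (one X)) := by
    conv_lhs => rw [← frobH_one (X := X) p]
    rw [W4c5isocrystsimpconn.frobH, ← unitAb_εO]
    simp only [← Sheaf.H.map_comp_apply]
    congr 2
    simp only [Iso.trans_inv, Functor.mapIso_inv, Category.assoc, ← Functor.map_comp,
      Iso.hom_inv_id_assoc]
    exact (unitAb_naturality p e.inv).symm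
  unfold cls
  refine (congrArg (fun t => delta (shortExact_G p hS e) 0 1 rfl t) hs).trans ?_
  let z : Abelian.Ext (ZZ X) (S.map (toAbF X)).X₃ 0 := Sheaf.H.map ((toAbF X).map e.inv) 0 (one X)
  change (z.comp (Abelian.Ext.mk₀ φ.τ₃) (add_zero 0)).comp (shortExact_toAb (shortExact_G p hS e)).extClass rfl =
    (z.comp (shortExact_toAb hS).extClass rfl).comp (Abelian.Ext.mk₀ φ.τ₁) (add_zero 1)
  have h1 : (S.map (toAbF X)).ShortExact := shortExact_toAb hS
  have h2 : ((S.map (G p)).map (toAbF X)).ShortExact := shortExact_toAb (shortExact_G p hS e)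
  have hn := ShortComplex.ShortExact.extClass_naturality h1 h2 φ
  rw [Abelian.Ext.comp_assoc_of_third_deg_zero]
  refine Eq.trans ?_ (congrArg (fun t => z.comp t (zero_add 1)) hn).symm
  simp only [Abelian.Ext.comp_assoc_of_second_deg_zero]

theorem iterate_G (m : ℕ) [(G (X := X) p).Additive] : ∀ (S : ShortComplex X.Modules) (_hS : S.ShortExact)
    (_e : S.X₃ ≅ Coh.structureModule X), ∃ (S' : ShortComplex X.Modules),
      S'.ShortExact ∧ Nonempty (S'.X₃ ≅ Coh.structureModule X) ∧
      S'.X₁ = ((G p).obj)^[m] S.X₁ ∧ S'.X₂ = ((G p).obj)^[m] S.X₂ := by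
  induction m with
  | zero => exact fun S hS e => ⟨S, hS, ⟨e⟩, rfl, rfl⟩
  | succ m ih =>
    intro S hS e
    exact ih (S.map (G p)) (shortExact_G p hS e) ((G p).mapIso e ≪≫ εO p)

theorem trivialise [(G (X := X) p).Additive] {r : ℕ} (m : ℕ) : ∀ (S : ShortComplex X.Modules)
    (hS : S.ShortExact) (e : S.X₃ ≅ Coh.structureModule X) (d : Dec r S.X₁),
    (∀ j, (W4c5isocrystsimpconn.frobH X p 1)^[m] (Sheaf.H.map ((toAbF X).map (d.π j)) 1 (cls hS e)) = 0) →
    Nonempty (Dec (r + 1) (((G p).obj)^[m] S.X₂)) := by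
  induction m with
  | zero =>
    intro S hS e d h
    have hz : cls hS e = 0 := by
      rw [← Sheaf.H.map_id_apply (cls hS e),
        show 𝟙 (Coh.toAb S.X₁) = (toAbF X).map (∑ j, d.π j ≫ d.ι j) by
          rw [d.total, CategoryTheory.Functor.map_id],
        Functor.map_sum]
      let ev : ((toAbF X).obj S.X₁ ⟶ (toAbF X).obj S.X₁) →+ Coh.HH X S.X₁ 1 :=
        AddMonoidHom.mk' (fun φ => Sheaf.H.map φ 1 (cls hS e)) fun φ ψ => Sheaf.H.map_add_apply φ ψ _
      refine (map_sum ev _ _).trans (Finset.sum_eq_zero fun j _ => ?_)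
      change Sheaf.H.map ((toAbF X).map (d.π j ≫ d.ι j)) 1 (cls hS e) = 0
      rw [Functor.map_comp, Sheaf.H.map_comp_apply]
      exact (congrArg _ (h j)).trans (map_zero _)
    obtain ⟨s⟩ := nonempty_splitting hS e hz
    exact ⟨d.ofSplit e s⟩
  | succ m ih =>
    intro S hS e d h
    refine ih (S.map (G p)) (shortExact_G p hS e) ((G p).mapIso e ≪≫ εO p) (d.pull p) fun j => ?_
    refine (congrArg (fun t => (W4c5isocrystsimpconn.frobH X p 1)^[m]
      (Sheaf.H.map ((toAbF X).map ((d.pull p).π j)) 1 t)) (cls_pull p hS e)).trans ?_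
    refine (congrArg _ (Sheaf.H.map_comp_apply _ _ _).symm).trans ?_
    have hh : unitAb p S.X₁ ≫ (toAbF X).map ((d.pull p).π j) =
        (toAbF X).map (d.π j) ≫ W4c5isocrystsimpconn.frobAb X p := by
      rw [← unitAb_εO, ← Category.assoc, unitAb_naturality]
      simp only [Dec.pull, Functor.map_comp, Category.assoc]
    refine (congrArg (fun φ => (W4c5isocrystsimpconn.frobH X p 1)^[m] (Sheaf.H.map φ 1 (cls hS e))) hh).trans ?_
    rw [Sheaf.H.map_comp_apply]
    exact (Function.iterate_succ_apply _ m _).symm.trans (h j)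

theorem main [(G (X := X) p).Additive] {b : ℕ}
    (hb : ∀ x : Coh.HH X (Coh.structureModule X) 1, (W4c5isocrystsimpconn.frobH X p 1)^[b] x = 0) :
    ∀ (r : ℕ) (E : X.Modules), W4c5isocrystsimpconn.IsIterExt X r E →
      Nonempty (Dec r (((G p).obj)^[b * (r - 1)] E))
  | 0, E, h => by
    simp only [Nat.zero_sub, Nat.mul_zero, Function.iterate_zero, id_eq]
    exact ⟨Dec.ofIsZero h⟩
  | 1, E, ⟨E', i, q, w, h', hS⟩ => by
    simp only [Nat.sub_self, Nat.mul_zero]
    exact trivialise p 0 (ShortComplex.mk i q w) hS (Iso.refl _) (Dec.ofIsZero h') fun j => j.elim0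
  | r + 2, E, ⟨E', i, q, w, h', hS⟩ => by
    obtain ⟨d⟩ := main hb (r + 1) E' h'
    obtain ⟨S', hS', ⟨e'⟩, h₁, h₂⟩ := iterate_G p (b * (r + 1 - 1)) (ShortComplex.mk i q w) hS (Iso.refl _)
    have d' : Dec (r + 1) S'.X₁ := by rw [h₁]; exact d
    have := trivialise p b S' hS' e' d' fun j => hb _
    rw [h₂] at this
    rw [← Function.iterate_add_apply] at this
    have hn : b * (r + 2 - 1) = b + b * (r + 1 - 1) := by
      simp only [Nat.add_sub_cancel, show r + 2 - 1 = r + 1 from rfl]
      rw [Nat.mul_succ, Nat.add_comm]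
    rw [hn]
    exact this

end Frob

end Groth.Agent.FrobSplit71.Iter
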