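import Mathlib
import Groth.Prelude.Def_W4c5isocrystsimpconnFrobH
import Groth.Prelude.Def_Pi1
import Groth.Agent.EtAS.Proper
import Groth.Agent.CAlg.Semilinear
import Groth.Agent.EtConsAb.ConstMod
import Groth.Agent.EtaleSite.HpullComp
import Groth.Agent.S14381

/-!
Frobenius is nilpotent on `H¹(O)` of a proper connected scheme whose finite étale covers split.
-/

set_option autoImplicit false
set_option backward.isDefEq.respectTransparency false
set_option backward.isDefEq.respectTransparency.types false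

universe u

open CategoryTheory CategoryTheory.Limits AlgebraicGeometry Opposite TopologicalSpace

noncomputable section

namespace Groth.Agent.FrobSplit71

open Groth.Agent.EtAS

/-- A stable subspace of a semilinear map without nonzero fixed vectors is zero. -/
theorem eq_bot_of_map_eq {p : ℕ} [Fact p.Prime] {k : Type u} [Field k] [IsAlgClosed k] [CharP k p]
    {V : Type*} [AddCommGroup V] [Module k V] [FiniteDimensional k V] [RingHomSurjective (frobenius k p)]
    (φ : V →ₛₗ[frobenius k p] V) (hfix : ∀ v, φ v = v → v = 0) (S : Submodule k V) (heq : S.map φ = S) :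
    S = ⊥ := by
  by_contra hne
  haveI : Nontrivial ↥S := Submodule.nontrivial_iff_ne_bot.2 hne
  let ψ : ↥S →ₛₗ[frobenius k p] ↥S :=
    (φ.comp S.subtype).codRestrict S fun x => heq.le (Submodule.mem_map_of_mem x.2)
  have hψ : ∀ x : ↥S, (ψ x : V) = φ (x : V) := fun x => rfl
  have hs : Function.Surjective ψ := fun y => by
    obtain ⟨x, hx, hxy⟩ := heq.ge y.2
    exact ⟨⟨x, hx⟩, Subtype.ext ((hψ _).trans hxy)⟩
  have hinj : Function.Injective ψ := by
    rw [injective_iff_map_eq_zero]
    intro v hv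
    let hb := Module.finBasis k ↥S
    have hspan : ⊤ ≤ Submodule.span k (Set.range fun i => ψ (hb i)) := by
      rintro y -
      obtain ⟨x, rfl⟩ := hs y
      rw [← hb.sum_repr x, map_sum]
      exact Submodule.sum_mem _ fun i _ => by
        rw [LinearMap.map_smulₛₗ]
        exact Submodule.smul_mem _ _ (Submodule.subset_span ⟨i, rfl⟩)
    have hli : LinearIndependent k (fun i => ψ (hb i)) :=
      linearIndependent_of_top_le_span_of_card_eq_finrank hspan (by simp)
    rw [← hb.sum_repr v]
    have hv' : ∑ i, frobenius k p (hb.repr v i) • ψ (hb i) = 0 := by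
      rw [← hb.sum_repr v, map_sum] at hv
      simpa only [LinearMap.map_smulₛₗ] using hv
    have hc := Fintype.linearIndependent_iff.1 hli _ hv'
    exact Finset.sum_eq_zero fun i _ => by
      rw [(map_eq_zero_iff _ (frobenius k p).injective).1 (hc i), zero_smul]
  obtain ⟨w, hw0, hw⟩ := CAlg.Semilinear.exists_fixed_ne_zero (p := p) (ν := 1) le_rfl
    ψ.toAddMonoidHom (fun a v => by
      rw [pow_one]
      exact (LinearMap.map_smulₛₗ ψ a v)) hinj
  apply hw0
  apply Subtype.ext
  exact hfix w ((hψ w).symm.trans (congrArg Subtype.val hw))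

/-- A semilinear endomorphism of a finite dimensional space without nonzero fixed vectors is nilpotent. -/
theorem exists_iterate_eq_zero {p : ℕ} [Fact p.Prime] {k : Type u} [Field k] [IsAlgClosed k] [CharP k p]
    {V : Type*} [AddCommGroup V] [Module k V] [FiniteDimensional k V] (φ : V →+ V)
    (hφ : ∀ (a : k) (v : V), φ (a • v) = a ^ p • φ v) (hfix : ∀ v, φ v = v → v = 0) :
    ∃ b : ℕ, 0 < b ∧ ∀ v, φ^[b] v = 0 := by
  let σ : k →+* k := frobenius k p
  haveI : RingHomSurjective σ :=
    ⟨fun x => ⟨(IsAlgClosed.exists_pow_nat_eq x (Fact.out : p.Prime).pos).choose,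
      (IsAlgClosed.exists_pow_nat_eq x (Fact.out : p.Prime).pos).choose_spec⟩⟩
  let φl : V →ₛₗ[σ] V := { φ with map_smul' := fun a v => hφ a v }
  let W : ℕ → Submodule k V := fun n => Nat.rec ⊤ (fun _ S => S.map φl) n
  have hW : ∀ n, W (n + 1) = (W n).map φl := fun n => rfl
  have hmem : ∀ n v, φ^[n] v ∈ W n := by
    intro n
    induction n with
    | zero => exact fun v => Submodule.mem_top
    | succ n ih =>
      intro v
      rw [Function.iterate_succ_apply', hW]
      exact Submodule.mem_map_of_mem (f := φl) (ih v)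
  have hanti : ∀ n, W (n + 1) ≤ W n := by
    intro n
    induction n with
    | zero => exact le_top
    | succ n ih => rw [hW (n + 1), hW n]; exact Submodule.map_mono ih
  obtain ⟨n, hn⟩ := IsArtinian.monotone_stabilizes (R := k) (M := V)
    ⟨fun i => OrderDual.toDual (W i), monotone_nat_of_le_succ hanti⟩
  have heq : (W n).map φl = W n := (hn (n + 1) (Nat.le_succ n)).symm
  have hzero : W n = ⊥ := eq_bot_of_map_eq φl hfix (W n) heq
  refine ⟨n + 1, Nat.succ_pos n, fun v => ?_⟩
  have := hanti n (hmem (n + 1) v)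
  rw [hzero] at this
  exact (Submodule.mem_bot k).1 this

/-- The comparison of étale and Zariski `H(O)` commutes with Frobenius. -/
theorem exists_equiv_frob (X : Scheme.{u}) (p : ℕ) [hp : Fact p.Prime] [FrobSch.IsCharP X p]
    (h0 : (p : Γ(X, ⊤)) = 0) (q : ℕ) :
    ∃ E : EtCoh.H X (EtCoh.Ga X) q ≃+ Coh.HH X (Coh.structureModule X) q,
      ∀ x : EtCoh.H X (EtCoh.Ga X) q,
        E (Sheaf.H.map (Coherent.frob p hp.out h0) q x) = W4c5isocrystsimpconn.frobH X p q (E x) := by
  haveI := S0110.zarCont X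
  obtain ⟨e, he⟩ := EtZarUlift.exists_natural_equiv (X := X) q
  let a := AddEquiv.ofBijective _ (Coherent.cmp_bijective (EtCoh.Ga X) (S0110.affVan_Ga X) q)
  let m := Sheaf.H.map (Coherent.resIso X).hom q
  let m' := Sheaf.H.map (Coherent.resIso X).inv q
  have hmm : ∀ z, m' (m z) = z ∧ ∀ w, m (m' w) = w := fun z => ⟨by
      rw [← Sheaf.H.map_comp_apply, Iso.hom_inv_id, Sheaf.H.map_id_apply],
    fun w => by rw [← Sheaf.H.map_comp_apply, Iso.inv_hom_id, Sheaf.H.map_id_apply]⟩
  let b : EtZar.H ((EtZar.resZar X).obj (EtCoh.Ga X)) q ≃+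
      Sheaf.H ((EtZarUlift.lift X).obj (Coh.toAb (Coh.structureModule X))) q :=
    AddEquiv.ofBijective m ⟨fun x y h => by rw [← (hmm x).1, ← (hmm y).1, h],
      fun w => ⟨m' w, (hmm 0).2 w⟩⟩
  have hres : (EtZar.resZar X).map (Coherent.frob p hp.out h0) ≫ (Coherent.resIso X).hom =
      (Coherent.resIso X).hom ≫ (EtZarUlift.lift X).map (W4c5isocrystsimpconn.frobAb X p) := by
    refine ObjectProperty.hom_ext _ (NatTrans.ext (funext fun U => ?_))
    refine AddCommGrpCat.hom_ext (DFunLike.ext _ _ fun x => ?_)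
    obtain ⟨x⟩ : ULift.{u + 1} Γ(((EtZar.zarToEt X).obj U.unop).left, ⊤) := x
    refine Eq.trans (congrArg (fun t => (Coherent.resIso X).hom.hom.app U t)
      (Coherent.frob_app p hp.out h0 ((EtZar.zarToEt X).obj U.unop) x)) ?_
    refine ULift.ext _ _ ?_
    exact map_pow (Scheme.Opens.topIso (X := X) U.unop).hom.hom x p
  refine ⟨a.symm.trans (b.trans (e _).symm), fun x => ?_⟩
  obtain ⟨z, rfl⟩ := a.surjective x
  have h1 : Sheaf.H.map (Coherent.frob p hp.out h0) q (a z) =
      a (Sheaf.H.map ((EtZar.resZar X).map (Coherent.frob p hp.out h0)) q z) :=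
    (Coherent.cmp_natural (Coherent.frob p hp.out h0) q z).symm
  simp only [AddEquiv.trans_apply]
  rw [h1, AddEquiv.symm_apply_apply, AddEquiv.symm_apply_apply]
  apply (e _).injective
  rw [AddEquiv.apply_symm_apply, W4c5isocrystsimpconn.frobH, he, AddEquiv.apply_symm_apply]
  show Sheaf.H.map (Coherent.resIso X).hom q _ =
    Sheaf.H.map _ q (Sheaf.H.map (Coherent.resIso X).hom q z)
  rw [← Sheaf.H.map_comp_apply, ← Sheaf.H.map_comp_apply, hres]

variable {X : Scheme.{u}}

/-- First cohomology of a finite constant sheaf vanishes if all finite étale covers split. -/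
theorem eq_zero_of_isSplit [CompactSpace X] [QuasiSeparatedSpace X] [ConnectedSpace X]
    (hπ : ∀ Y : FEt.Cat X, Pi1.IsSplit Y) (p : ℕ) [hp : Fact p.Prime]
    (ζ : EtCoh.H X (EtCoh.const X (ZMod p)) 1) : ζ = 0 := by
  have hflc : EtCoh.IsFiniteLocallyConstant (EtCoh.const X (ZMod p)) :=
    EtConsAb.isFLC_const (X := X) (ULift.{u + 1} (ZMod p))
  have hkill : EtCoh.KilledBy p (EtCoh.const X (ZMod p)) := fun U s => by
    have hM : (p : ℕ) • 𝟙 (AddCommGrpCat.of (ULift.{u + 1} (ZMod p))) = 0 := by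
      refine AddCommGrpCat.hom_ext (DFunLike.ext _ _ fun x => ?_)
      change p • x = 0
      ext
      simp
    have h : p • 𝟙 (EtCoh.const X (ZMod p)) = 0 := by
      let F := constantSheaf X.smallEtaleTopology AddCommGrpCat.{u + 1}
      let M := AddCommGrpCat.of (ULift.{u + 1} (ZMod p))
      have e1 : F.map (p • 𝟙 M) = p • F.map (𝟙 M) := (F.mapAddHom).map_nsmul (n := p) (a := 𝟙 M)
      have e2 : F.map (𝟙 M) = 𝟙 (EtCoh.const X (ZMod p)) := F.map_id M
      rw [e2] at e1
      exact e1.symm.trans ((congrArg F.map hM).trans (F.map_zero M M))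
    let ev : (EtCoh.const X (ZMod p) ⟶ EtCoh.const X (ZMod p)) →+ EtCoh.sect (EtCoh.const X (ZMod p)) U :=
      AddMonoidHom.mk' (fun φ => φ.hom.app (op U) s) (fun φ ψ => rfl)
    exact (map_nsmul ev p (𝟙 (EtCoh.const X (ZMod p)))).symm.trans ((congrArg ev h).trans (map_zero ev))
  haveI : Finite (_root_.ConnectedComponents X) := Finite.of_subsingleton
  obtain ⟨Y', g, hf, he, hs, hζ⟩ :=
    S14381.result X inferInstance _ hflc ⟨p, hp.out.pos, hkill⟩ ζ
  obtain ⟨ι, _, e, he'⟩ := hπ (MorphismProperty.Over.mk ⊤ g ⟨hf, he⟩)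
  obtain ⟨y, -⟩ := hs.surj (Classical.arbitrary X)
  haveI : Nonempty ι := by
    by_contra hι
    rw [not_nonempty_iff] at hι
    haveI : IsEmpty (∐ fun _ : ι => X : Scheme.{u}) :=
      ⟨fun z => hι.elim ((AlgebraicGeometry.sigmaMk (fun _ : ι => X)).symm z).1⟩
    exact isEmptyElim (e.hom y)
  let s : X ⟶ Y' := Limits.Sigma.ι (fun _ : ι => X) (Classical.arbitrary ι) ≫ e.inv
  have hsg : s ≫ g = 𝟙 X := (Category.assoc _ _ _).trans (he' (Classical.arbitrary ι))
  have hinj : Function.Injective (EtCore.Hpull (s ≫ g) (EtCoh.const X (ZMod p)) 1) :=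
    (EtaleSite.HpullComp.Hpull_congr hsg _ 1).1.2 (EtaleSite.HpullComp.Hpull_id_bijective 1 _).1
  have := (EtaleSite.HpullComp.Hpull_comp_injective_iff s g 1 _).1.1 hinj
  refine this ?_
  change EtCore.Hpull s _ 1 (EtCore.Hpull g _ 1 ζ) = EtCore.Hpull s _ 1 (EtCore.Hpull g _ 1 0)
  rw [hζ, map_zero, map_zero]
  exact (map_zero _).symm

end Groth.Agent.FrobSplit71
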